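import Groth.Agent.Lib.StAut14.Weak
import Groth.Prelude.Def_StGerb

/-!
# Representable morphisms of DM stacks; algebraic stacks for the etale topology with trivial stabilisers
-/

set_option autoImplicit false
set_option backward.isDefEq.respectTransparency false
set_option backward.isDefEq.respectTransparency.types false

universe u

open CategoryTheory CategoryTheory.Functor CategoryTheory.Limits AlgebraicGeometry Opposite

namespace Groth.Agent.StAut14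

open Groth.Agent.FC16 Groth.Agent.StAlg

variable {S : Scheme.{u}} {𝒳 𝒴 : AlgSt.Cat S}

theorem isDMOver_of_isDM (h𝒳 : AlgSt.IsDM Scheme.fppfPrecoverage 𝒳) : AlgSt.IsDMOver 𝒳 := by
  obtain ⟨h, U, x, hx, hxs⟩ := h𝒳
  have he : AlgSt.RepByAlgSpWith (AlgSp.LocP @Etale) x :=
    repByAlgSpWith_mono (fun _ _ _ _ ha => AlgSpDescent.locP_etale_of_isEtaleMor ha) hx
  exact diag_toSelf_of_cover isLocalOnBase_fppf_locP_unramified
    (fun _ hX _ a => locP_lftUnram_diagonal hX a) h (rep_overCat U)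
    (with_locP_mono (fun _ _ g (_ : Etale g) => (inferInstance : Flat g)) he)
    (with_locP_mono (fun _ _ g (_ : Etale g) => (inferInstance : LocallyOfFinitePresentation g)) he) hxs
    (with_locP_mono (fun _ _ g (_ : Etale g) => ⟨inferInstance, inferInstance⟩) he)

theorem rep1_of_geomAut_injective (h𝒳 : AlgSt.IsDM Scheme.fppfPrecoverage 𝒳)
    (h𝒴 : AlgSt.IsDM Scheme.fppfPrecoverage 𝒴) (g : 𝒳 ⥤ᵇ 𝒴)
    (hinj : ∀ (k : Type u) [Field k] [IsAlgClosed k] (s : Spec (CommRingCat.of k) ⟶ S) (ξ : 𝒳.obj)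
      (_ : 𝒳.p.obj ξ = Over.mk s) (a : ξ ⟶ ξ), 𝒳.p.IsHomLift (𝟙 (𝒳.p.obj ξ)) a →
        g.map a = 𝟙 (g.obj ξ) → a = 𝟙 ξ) :
    AlgSt.RepByAlgSp1 g := by
  intro U y
  have hU := (isDM_of_rep (rep_overCat (S := S) U)).1
  have hgU := overCat_isFibGrpd U
  have gX := h𝒳.1.isStack.1
  have gY := h𝒴.1.isStack.1
  have hP : AlgSt.IsAlgStack Scheme.fppfPrecoverage (FibCat.fp y g) :=
    StAlg.isAlgStack_fp h𝒴.1.isStack h𝒴.1.diag hU h𝒳.1 y g
  let g𝒵 := fp_isFibGrpd hgU gX gY y g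
  -- the fibre product has unramified diagonal
  have hg : AlgSt.IsDMMor g := isDMMor_of_comp (g := FibCat.toSelf 𝒴) h𝒳.1 h𝒴.1 (isDM_of_rep rep_selfOver).1
    (with_diag_of_iso (eqToIso (selfOver_functor_eq _ _)) (isDMOver_of_isDM h𝒳))
  have hd : AlgSt.IsDMOver (FibCat.fp y g) :=
    with_diag_of_iso (eqToIso (selfOver_functor_eq _ _))
      (with_diag_comp goodP_locP g𝒵 hgU (with_diag_fpFst (f := g) (g := y) hg)
        (isDMMor_of_rep1 (f := FibCat.toSelf (FibCat.overCat U)) (rep1_of_rep (rep_overCat U) rep_selfOver _)))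
  have hl := repByAlgSpWith_mono (fun _ _ _ _ ha => locP_mono lftUnram_le_lft ha) hd
  have H : GeomAutTriv₀ (FibCat.fp y g) := by
    intro k _ _ str Q hQ σ hσ
    haveI : (FibCat.fp y g).p.IsHomLift (𝟙 ((FibCat.fp y g).p.obj Q)) σ :=
      IsHomLift.of_fac' _ _ σ rfl rfl (hσ.trans (by simp))
    have hs : 𝒳.p.obj Q.obj.snd = Over.mk str := (FC16.snd_p Q).trans hQ
    haveI h2 : 𝒳.p.IsHomLift (𝟙 Q.obj.fst.left) σ.hom.snd := isHomLift_snd (𝟙 ((FibCat.fp y g).p.obj Q)) σ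
    have h1 : σ.hom.fst = 𝟙 _ := Over.OverMorphism.ext hσ
    have h3 : y.map σ.hom.fst ≫ Q.obj.iso.hom = Q.obj.iso.hom ≫ g.map σ.hom.snd := fp_w σ
    rw [h1, CategoryTheory.Functor.map_id, Category.id_comp] at h3
    have h4 : g.map σ.hom.snd = 𝟙 _ := by
      rw [← cancel_epi Q.obj.iso.hom, ← h3]
      exact (Category.comp_id _).symm
    have h5 := hinj k str Q.obj.snd hs σ.hom.snd (by rw [FC16.snd_p Q]; exact h2) h4
    exact fp_hom_ext h1 h5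
  refine (StAlg16.isFibSetoid_iff_rep hP).1 ((StAlg16.faithful_toSelf_iff g𝒵).1 ?_)
  exact (StAlg16.faithful_iff_kernel _ g𝒵 selfOver_isFibGrpd).2 fun a φ hφ _ =>
    eq_id_of_geomAutTriv₀ g𝒵 hl H (Or.inr hd) a φ hφ

theorem isFibSetoid_of_geomAutTriv {K : Precoverage Scheme.{u}} (h𝒳 : AlgSt.IsAlgStack K 𝒳)
    (H : GeomAutTriv 𝒳) : FibCat.IsFibSetoid 𝒳.p :=
  (StAlg16.faithful_toSelf_iff h𝒳.isStack.1).1 ((StAlg16.faithful_iff_kernel _ h𝒳.isStack.1 selfOver_isFibGrpd).2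
    fun a φ hφ _ => eq_id_of_geomAutTriv₀ h𝒳.isStack.1 (lft_diag_toSelf h𝒳) H.weak (Or.inl H) a φ hφ)

/-- an etale stack in setoids with a smooth chart is a space -/
theorem rep_of_isFibSetoid_etale (h𝒳 : AlgSt.IsAlgStack Scheme.etalePrecoverage 𝒳)
    (hs : FibCat.IsFibSetoid 𝒳.p) : AlgSt.RepByAlgSp 𝒳 := by
  obtain ⟨G, e, he⟩ := exists_psh.{u + 1} (𝒳 := 𝒳) hs
  have hG : Presheaf.IsSheaf (QuotSh.J Scheme.etalePrecoverage S) G := (isSheaf_iff_isSheaf_of_type _ _).2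
    ((isStack_ofPsh_iff _ G).1 ((isStack_iff_of_isEquivOver _ he).2 h𝒳.isStack))
  obtain ⟨U, x, hx, hxs⟩ := h𝒳.atlas
  obtain ⟨e', he', -, ⟨β⟩⟩ := exists_inverse he
  let x' : AlgSt.ofSch U ⥤ᵇ Stk.ofPsh G := BasedFunctor.comp (BasedFunctor.comp (AlgSt.toOverCat U) x) e'
  let p : ((AlgSp.yon S).obj U).obj ⟶ G := mapOf x'
  have hw : ∀ (P : MorphismProperty (AlgSp.Sp S)), AlgSt.RepByAlgSpWith P x →
      AlgSt.RepByAlgSpWith P (Stk.ofPshMap p) := fun P h =>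
    with_of_iso (isoMapOf x') ((with_congr (f := x) (f' := x') (a := AlgSt.toOverCat U) (b := e)
      (toOverCat_isEquivOver U) he (wlIso (BasedFunctor.comp (AlgSt.toOverCat U) x) β)).1 h)
  have hpi : PreIso (AlgSp.IsSurjectiveMor (S := S)) := goodP_surjective.preIso
  have hli : PreIso (AlgSp.LocP (S := S) @Smooth) := preIso_of_pullback pbP_locP
  have h2 : AlgSp.RepBySpWith (AlgSp.IsSurjectiveMor ⊓ AlgSp.LocP @Smooth) p := fun W ξ F' fst snd sq => by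
    obtain ⟨h, hA, hP₁⟩ := repBySpWith_of_with hpi (hw _ hxs) ξ fst snd sq
    obtain ⟨_, _, hP₂⟩ := repBySpWith_of_with hli (hw _ hx) ξ fst snd sq
    exact ⟨h, hA, hP₁, hP₂⟩
  obtain ⟨hs', hA⟩ := AlgSpace.isAlgSpaceP_of_smooth_cover hG (AlgSp.IsAlgSpace.yon_obj U) p h2
  exact ⟨⟨⟨G, hs'⟩, hA⟩, e, he⟩

theorem geomAutTriv_of_fieldPt (h : FibCat.IsFibGrpd 𝒳.p)
    (H : ∀ (k : Type u) [Field k] (sk : Spec (CommRingCat.of k) ⟶ S)
      (x : FibCat.overCat (Over.mk sk) ⥤ᵇ 𝒳) (T : Over (Over.mk sk)), Subsingleton (Gerb.AutO (x.obj T))) :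
    GeomAutTriv 𝒳 := by
  intro k _ _ x ex ξ m σ hσ
  haveI := FC16.isFibered h
  let sk : Spec (CommRingCat.of k) ⟶ S := ex.inv ≫ (𝒳.p.obj x).hom
  let j : Over.mk sk ≅ 𝒳.p.obj x := Over.isoMk ex.symm rfl
  obtain ⟨x', m', hm'⟩ := FC16.exists_lift h rfl j.hom
  haveI := hm'
  haveI : IsIso m' := FC16.isIso_of_isHomLift h j.hom m'
  have hx' := IsHomLift.domain_eq 𝒳.p j.hom m'
  let g : 𝒳.p.obj ξ ⟶ Over.mk sk := 𝒳.p.map (m ≫ inv m') ≫ eqToHom hx'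
  haveI : 𝒳.p.IsHomLift g (m ≫ inv m') := IsHomLift.of_fac' 𝒳.p g _ rfl hx' (by simp [g])
  let T : Over (Over.mk sk) := Over.mk g
  let A := (FC16.ofObj hx').obj T
  let χ : ξ ⟶ A := IsStronglyCartesian.map 𝒳.p g (IsPreFibered.pullbackMap hx' g)
    (g := 𝟙 (𝒳.p.obj ξ)) (f' := g) (Category.id_comp g).symm (m ≫ inv m')
  haveI : 𝒳.p.IsHomLift (𝟙 (𝒳.p.obj ξ)) χ := by unfold χ; infer_instance
  haveI : IsIso χ := FC16.isIso_of_isHomLift h (𝟙 (𝒳.p.obj ξ)) χ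
  have hτ : 𝒳.p.map (inv χ ≫ σ ≫ χ) = 𝟙 (𝒳.p.obj A) := by
    rw [Functor.map_comp, Functor.map_comp, hσ, Category.id_comp, Functor.map_inv, IsIso.inv_hom_id]
  haveI : IsIso σ := by
    haveI : 𝒳.p.IsHomLift (𝟙 (𝒳.p.obj ξ)) σ := IsHomLift.of_fac' 𝒳.p _ σ rfl rfl (by simp [hσ])
    exact FC16.isIso_of_isHomLift h (𝟙 (𝒳.p.obj ξ)) σ
  let τ : A ≅ A := asIso (inv χ ≫ σ ≫ χ)
  have l1 : 𝒳.p.IsHomLift (𝟙 (𝒳.p.obj A)) τ.hom := IsHomLift.of_fac' 𝒳.p _ _ rfl rfl (by simp [τ, hτ])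
  haveI := l1
  let α : Gerb.AutO A :=
    { hom := ⟨τ.hom, l1⟩
      inv := ⟨τ.inv, IsHomLift.lift_id_inv 𝒳.p _ τ⟩
      hom_inv_id := Fiber.hom_ext τ.hom_inv_id
      inv_hom_id := Fiber.hom_ext τ.inv_hom_id }
  haveI := H k sk (FC16.ofObj hx') T
  have e : τ.hom = 𝟙 A := congrArg (fun a : Gerb.AutO A => a.hom.1) (Subsingleton.elim α 1)
  have e2 : inv χ ≫ σ ≫ χ = 𝟙 A := e
  rw [IsIso.inv_comp_eq, Category.comp_id] at e2
  exact (cancel_mono χ).1 (e2.trans (Category.id_comp χ).symm)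

theorem rep_iff_fieldPt (h𝒳 : AlgSt.IsAlgStack Scheme.etalePrecoverage 𝒳) :
    AlgSt.RepByAlgSp 𝒳 ↔
      ∀ (k : Type u) [Field k] (sk : Spec (CommRingCat.of k) ⟶ S)
        (x : FibCat.overCat (Over.mk sk) ⥤ᵇ 𝒳) (T : Over (Over.mk sk)), Subsingleton (Gerb.AutO (x.obj T)) := by
  refine ⟨fun hr k _ sk x T => ⟨fun α β => Iso.ext (Fiber.hom_ext ?_)⟩,
    fun H => rep_of_isFibSetoid_etale h𝒳
      (isFibSetoid_of_geomAutTriv h𝒳 (geomAutTriv_of_fieldPt h𝒳.isStack.1 H))⟩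
  haveI := α.hom.2
  haveI := β.hom.2
  exact hom_ext_of_isFibSetoid (isFibSetoid_of_rep hr) (𝟙 (𝒳.p.obj (x.obj T))) α.hom.1 β.hom.1

end Groth.Agent.StAut14
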