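import Groth.Agent.Lib.StAut14.UnrTest
import Groth.Agent.Lib.StAlg16.Faithful
import Groth.Agent.Lib.StAlg.Descent
import Groth.Agent.Lib.AlgSpDescent.MonoLft
import Groth.Agent.Lib.FC16.Yoneda

/-!
# Stacks with trivial automorphisms over geometric points are spaces
-/

set_option autoImplicit false
set_option backward.isDefEq.respectTransparency false
set_option backward.isDefEq.respectTransparency.types false

universe u

open CategoryTheory CategoryTheory.Functor CategoryTheory.Limits AlgebraicGeometry Opposite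

namespace Groth.Agent.StAut14

open Groth.Agent.IsoNat5 Groth.Agent.FC16

variable {S : Scheme.{u}} {𝒳 : AlgSt.Cat S}

variable (𝒳) in
/-- Automorphisms over geometric points are trivial. -/
def GeomAutTriv : Prop :=
  ∀ (k : Type u) [Field k] [IsAlgClosed k] (x : 𝒳.obj) (_ : (𝒳.p.obj x).left ≅ Spec (CommRingCat.of k))
    (ξ : 𝒳.obj) (_ : ξ ⟶ x) (σ : ξ ⟶ ξ), 𝒳.p.map σ = 𝟙 (𝒳.p.obj ξ) → σ = 𝟙 ξ

/-- The pullbacks of `a` along `g` have only trivial automorphisms. -/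
def AutTriv (a : 𝒳.obj) {T : Over S} (g : T ⟶ 𝒳.p.obj a) : Prop :=
  ∀ (x : 𝒳.obj) (m : x ⟶ a), 𝒳.p.IsHomLift g m → ∀ σ : x ⟶ x, 𝒳.p.IsHomLift (𝟙 T) σ → σ = 𝟙 x

theorem AutTriv.congr {a : 𝒳.obj} {T T' : Over S} {g : T ⟶ 𝒳.p.obj a} (hg : AutTriv a g) (e : T' = T) :
    AutTriv a (eqToHom e ≫ g) := by
  subst e
  simpa using hg

theorem autTriv_of_factor (h : FibCat.IsFibGrpd 𝒳.p) (H : GeomAutTriv 𝒳) {a : 𝒳.obj} {K : Type u} [Field K]
    [IsAlgClosed K] {str : Spec (CommRingCat.of K) ⟶ S} {T : Over S} (π : T ⟶ Over.mk str)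
    (g₀ : Over.mk str ⟶ 𝒳.p.obj a) : AutTriv a (π ≫ g₀) := by
  intro x m hm σ hσ
  haveI := hm
  haveI := hσ
  obtain ⟨x₀, m₀, hm₀⟩ := FC16.exists_lift h rfl g₀
  haveI := hm₀
  haveI := FC16.isStronglyCartesian h g₀ m₀
  let χ : x ⟶ x₀ := Functor.IsStronglyCartesian.map 𝒳.p g₀ m₀ (g := π) (f' := π ≫ g₀) rfl m
  refine H K x₀ (eqToIso (congrArg Comma.left (IsHomLift.domain_eq 𝒳.p g₀ m₀))) x χ σ ?_
  rw [IsHomLift.fac' 𝒳.p (𝟙 T) σ]
  simp

theorem eq_of_autTriv (h : FibCat.IsFibGrpd 𝒳.p) {a : 𝒳.obj} {U : Over S} (hU : 𝒳.p.obj a = U)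
    {y : FibCat.overCat U ⥤ᵇ FibCat.fp (FibCat.toSelf 𝒳) (FibCat.toSelf 𝒳)}
    {P : (FibCat.fp (FibCat.toSelf 𝒳) (FibCat.toSelf 𝒳)).obj} (i : y.obj (Over.mk (𝟙 U)) ⟶ P)
    (hi : (FibCat.fp (FibCat.toSelf 𝒳) (FibCat.toSelf 𝒳)).p.IsHomLift (𝟙 U) i)
    (q₁ : P.obj.fst ⟶ a) (q₂ : P.obj.snd ⟶ a) (hq₁ : 𝒳.p.IsHomLift (𝟙 U) q₁) (hq₂ : 𝒳.p.IsHomLift (𝟙 U) q₂)
    {F : AlgSp.Sp S} {e : AlgSt.ofSp F ⥤ᵇ FibCat.fp y (FibCat.diag (FibCat.toSelf 𝒳))} (he : FibCat.IsEquivOver e)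
    {T : Over S} (g : T ⟶ U) (hg : AutTriv a (g ≫ eqToHom hU.symm)) (l l' : (AlgSp.yon S).obj T ⟶ F)
    (hl : l ≫ AlgSt.spMapOfOver (BasedFunctor.comp e (FibCat.fpFst y _)) = (AlgSp.yon S).map g)
    (hl' : l' ≫ AlgSt.spMapOfOver (BasedFunctor.comp e (FibCat.fpFst y _)) = (AlgSp.yon S).map g) : l = l' := by
  subst hU
  rw [eqToHom_refl, Category.comp_id] at hg
  let D := FibCat.diag (FibCat.toSelf 𝒳)
  let 𝒵 := FibCat.fp (FibCat.toSelf 𝒳) (FibCat.toSelf 𝒳)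
  have h𝒵 : FibCat.IsFibGrpd 𝒵.p := FC16.fp_isFibGrpd h h selfOver_isFibGrpd _ _
  let Φ := BasedFunctor.comp e (FibCat.fpFst y D)
  have hsec : ∀ (t : (AlgSp.yon S).obj T ⟶ F), t ≫ AlgSt.spMapOfOver Φ = (AlgSp.yon S).map g →
      AlgSt.secHom Φ ⟨T, AlgSpace.sect t⟩ = g := by
    intro t ht
    have h1 := congrArg AlgSpace.sect ht
    rw [show AlgSpace.sect (t ≫ AlgSt.spMapOfOver Φ) = (AlgSt.spMapOfOver Φ).hom.app (op T) (AlgSpace.sect t) from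
        GrothendieckTopology.uliftYonedaEquiv_comp _ _ _, AlgSt.spMapOfOver_app,
      show AlgSpace.sect ((AlgSp.yon S).map g) = ULift.up g from
        GrothendieckTopology.uliftYonedaEquiv_uliftYoneda_map _ _] at h1
    exact congrArg ULift.down h1
  let A : (AlgSt.ofSp F).obj := ⟨T, AlgSpace.sect l⟩
  let A' : (AlgSt.ofSp F).obj := ⟨T, AlgSpace.sect l'⟩
  let b : Over (𝒳.p.obj a) := (e.obj A).obj.fst
  let b' : Over (𝒳.p.obj a) := (e.obj A').obj.fst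
  have hb : b.left = T := Φ.w_obj A
  have hb' : b'.left = T := Φ.w_obj A'
  have hbg : ∀ (t : (AlgSp.yon S).obj T ⟶ F) (_ : t ≫ AlgSt.spMapOfOver Φ = (AlgSp.yon S).map g),
      (e.obj ⟨T, AlgSpace.sect t⟩).obj.fst.hom = eqToHom (Φ.w_obj ⟨T, AlgSpace.sect t⟩) ≫ g := by
    intro t ht
    have := hsec t ht
    rw [← this]
    simp only [AlgSt.secHom, eqToHom_trans_assoc, eqToHom_refl, Category.id_comp]
    rfl
  let β : b ⟶ b' := Over.homMk (eqToHom hb ≫ eqToHom hb'.symm) (by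
    rw [Category.assoc]
    show eqToHom hb ≫ eqToHom hb'.symm ≫ b'.hom = b.hom
    rw [show b'.hom = eqToHom hb' ≫ g from hbg l' hl', show b.hom = eqToHom hb ≫ g from hbg l hl]
    simp)
  haveI : IsIso β.left := inferInstanceAs (IsIso (eqToHom hb ≫ eqToHom hb'.symm))
  let ν : ∀ Q : (FibCat.fp y D).obj, D.obj Q.obj.snd ⟶ P := fun Q => Q.obj.iso.inv ≫ y.map (toTerm Q.obj.fst) ≫ i
  have hν : ∀ Q : (FibCat.fp y D).obj, 𝒵.p.IsHomLift Q.obj.fst.hom (ν Q) := fun Q => by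
    haveI := iso_lift Q (U := Q.obj.fst.left) rfl
    haveI := hi
    haveI : 𝒵.p.IsHomLift (𝟙 Q.obj.fst.left) Q.obj.iso.inv := IsHomLift.lift_id_inv 𝒵.p _ _
    haveI h0 := map_toTerm_lift y Q.obj.fst
    have h1 : 𝒵.p.IsHomLift (𝟙 Q.obj.fst.left ≫ Q.obj.fst.hom ≫ 𝟙 _) (ν Q) :=
      inferInstanceAs (𝒵.p.IsHomLift _ (Q.obj.iso.inv ≫ y.map (toTerm Q.obj.fst) ≫ i))
    rwa [Category.id_comp, Category.comp_id] at h1
  let Q := e.obj A
  let Q' := e.obj A'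
  let x : 𝒳.obj := Q.obj.snd
  let x' : 𝒳.obj := Q'.obj.snd
  let r₁ : ∀ R : (FibCat.fp y D).obj, R.obj.snd ⟶ a := fun R => (ν R).hom.fst ≫ q₁
  let r₂ : ∀ R : (FibCat.fp y D).obj, R.obj.snd ⟶ a := fun R => (ν R).hom.snd ≫ q₂
  have hr : ∀ R : (FibCat.fp y D).obj, 𝒳.p.IsHomLift R.obj.fst.hom (r₁ R) ∧ 𝒳.p.IsHomLift R.obj.fst.hom (r₂ R) := by
    intro R
    haveI := hν R
    haveI := hq₁
    haveI := hq₂
    haveI h1 : 𝒳.p.IsHomLift R.obj.fst.hom (ν R).hom.fst := isHomLift_fst _ _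
    haveI h2 : 𝒳.p.IsHomLift R.obj.fst.hom (ν R).hom.snd := isHomLift_snd _ _
    exact ⟨IsHomLift.comp_lift_id_right' 𝒳.p _ (ν R).hom.fst (𝒳.p.obj a) q₁,
      IsHomLift.comp_lift_id_right' 𝒳.p _ (ν R).hom.snd (𝒳.p.obj a) q₂⟩
  have hbb : β.left ≫ b'.hom = b.hom := Over.w β
  haveI := (hr Q).1
  haveI := (hr Q).2
  haveI := (hr Q').1
  haveI := (hr Q').2
  haveI := FC16.isStronglyCartesian h b'.hom (r₁ Q')
  haveI := FC16.isStronglyCartesian h b'.hom (r₂ Q')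
  let χ : x ⟶ x' := Functor.IsStronglyCartesian.map 𝒳.p b'.hom (r₁ Q') (g := β.left) (f' := b.hom) hbb.symm (r₁ Q)
  let ψ : x ⟶ x' := Functor.IsStronglyCartesian.map 𝒳.p b'.hom (r₂ Q') (g := β.left) (f' := b.hom) hbb.symm (r₂ Q)
  have hχ : χ ≫ r₁ Q' = r₁ Q := Functor.IsStronglyCartesian.fac _ _ _ _ _
  have hψ : ψ ≫ r₂ Q' = r₂ Q := Functor.IsStronglyCartesian.fac _ _ _ _ _
  haveI : IsIso χ := FC16.isIso_of_isHomLift h β.left χ
  have hσ : inv χ ≫ ψ = 𝟙 x' := by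
    have hg' : AutTriv a b'.hom := by
      rw [show b'.hom = eqToHom hb' ≫ g from hbg l' hl']
      exact hg.congr hb'
    refine hg' x' (r₁ Q') inferInstance _ ?_
    have h1 : 𝒳.p.IsHomLift (inv β.left ≫ β.left) (inv χ ≫ ψ) := inferInstance
    rwa [IsIso.inv_hom_id] at h1
  rw [IsIso.inv_comp_eq, Category.comp_id] at hσ
  rw [hσ] at hψ
  haveI := hq₁
  haveI := hq₂
  haveI : IsIso q₁ := FC16.isIso_of_isHomLift h (𝟙 (𝒳.p.obj a)) q₁
  haveI : IsIso q₂ := FC16.isIso_of_isHomLift h (𝟙 (𝒳.p.obj a)) q₂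
  have hDν : D.map χ ≫ ν Q' = ν Q := fp_hom_ext
    ((cancel_mono q₁).1 ((Category.assoc _ _ _).trans hχ))
    ((cancel_mono q₂).1 ((Category.assoc _ _ _).trans hψ))
  have hnat : y.map β ≫ y.map (toTerm b') = y.map (toTerm b) := by
    rw [← Functor.map_comp]
    exact congrArg y.map (Over.OverMorphism.ext hbb)
  let π : Q ⟶ Q' := fpHom β χ (by
    haveI := hν Q'
    haveI := FC16.isStronglyCartesian h𝒵 b'.hom (ν Q')
    haveI := iso_lift Q (U := b.left) rfl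
    haveI := iso_lift Q' (U := b'.left) rfl
    haveI : 𝒵.p.IsHomLift β.left (D.map χ) := BasedFunctor.preserves_isHomLift D β.left χ
    haveI : 𝒵.p.IsHomLift β.left (y.map β) := map_over_lift y β
    haveI : 𝒵.p.IsHomLift β.left (y.map β ≫ Q'.obj.iso.hom) := by
      have h1 : 𝒵.p.IsHomLift (β.left ≫ 𝟙 _) (y.map β ≫ Q'.obj.iso.hom) := inferInstance
      rwa [Category.comp_id] at h1
    haveI : 𝒵.p.IsHomLift β.left (Q.obj.iso.hom ≫ D.map χ) := by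
      have h1 : 𝒵.p.IsHomLift (𝟙 _ ≫ β.left) (Q.obj.iso.hom ≫ D.map χ) := inferInstance
      rwa [Category.id_comp] at h1
    refine Functor.IsStronglyCartesian.ext 𝒵.p b'.hom (ν Q') β.left ?_
    rw [Category.assoc, Category.assoc, hDν]
    show y.map β ≫ Q'.obj.iso.hom ≫ Q'.obj.iso.inv ≫ _ = Q.obj.iso.hom ≫ Q.obj.iso.inv ≫ _
    rw [Iso.hom_inv_id_assoc, Iso.hom_inv_id_assoc, reassoc_of% hnat])
  haveI := FC16.isEquivalence_of_isEquivOver he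
  let μ : A ⟶ A' := e.toFunctor.preimage π
  have hμ : e.map μ = π := e.toFunctor.map_preimage π
  haveI : (FibCat.fp y D).p.IsHomLift (𝟙 T) π :=
    IsHomLift.of_fac' _ _ _ hb hb' (by show β.left = _; simp [β])
  haveI : (AlgSt.ofSp F).p.IsHomLift (𝟙 T) μ := by
    rw [← BasedFunctor.isHomLift_iff e, hμ]
    infer_instance
  have hμf : μ.hom = 𝟙 T := (IsHomLift.fac' (AlgSt.ofSp F).p (𝟙 T) μ).trans (by simp; rfl)
  refine AlgSpace.sect.injective ?_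
  have h1 := μ.map_sec
  rw [hμf, op_id, F.obj.map_id] at h1
  exact h1.symm

theorem eq_id_of_geomAutTriv (h𝒳 : AlgSt.IsAlgStack Scheme.fppfPrecoverage 𝒳) (H : GeomAutTriv 𝒳)
    (a : 𝒳.obj) (φ : a ⟶ a) (hφ : 𝒳.p.map φ = 𝟙 _) : φ = 𝟙 a := by
  have h := h𝒳.isStack.1
  let T := 𝒳.p.obj a
  let D := FibCat.diag (FibCat.toSelf 𝒳)
  let 𝒵 := FibCat.fp (FibCat.toSelf 𝒳) (FibCat.toSelf 𝒳)
  have h𝒵 : FibCat.IsFibGrpd 𝒵.p := FC16.fp_isFibGrpd h h selfOver_isFibGrpd _ _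
  haveI := FC16.isFibered h𝒵
  haveI : 𝒳.p.IsHomLift (𝟙 T) φ := IsHomLift.of_fac' 𝒳.p _ φ rfl rfl (by simp [hφ, T])
  haveI : IsIso φ := FC16.isIso_of_isHomLift h (𝟙 T) φ
  let P : 𝒵.obj := fpObj a a (Iso.refl _) (U := T) rfl (IsHomLift.id rfl)
  have hP : 𝒵.p.obj P = T := rfl
  let y := ofObj hP
  let i := ofObjIso hP
  haveI hi : 𝒵.p.IsHomLift (𝟙 T) i.hom := inferInstanceAs (𝒵.p.IsHomLift (𝟙 T) (IsPreFibered.pullbackMap hP (𝟙 T)))
  obtain ⟨F, e, he, hlft⟩ := StAlg.lft_diag_toSelf h𝒳 T y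
  haveI := FC16.isEquivalence_of_isEquivOver he
  let Φ := BasedFunctor.comp e (FibCat.fpFst y D)
  let α : F.obj ⟶ (AlgSp.yon S).obj T := AlgSt.spMapOfOver Φ
  have key : ∀ {T' : Over S} (g : T' ⟶ T), AutTriv a g → ∀ l l' : (AlgSp.yon S).obj T' ⟶ F.obj,
      l ≫ α = (AlgSp.yon S).map g → l' ≫ α = (AlgSp.yon S).map g → l = l' := fun {T'} g hg l l' hl hl' =>
    eq_of_autTriv h (hU := rfl) i.hom hi (𝟙 a) (𝟙 a) (IsHomLift.id rfl) (IsHomLift.id rfl) he g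
      (by simpa using hg) l l' hl hl'
  -- the Isom space is unramified and universally injective
  have hui : AlgSp.IsUnivInjectiveMor α := by
    intro Z Z' hZ g fst snd sq x₁ x₂
    induction x₁ using AlgSp.Points.ind with
    | h p =>
    induction x₂ using AlgSp.Points.ind with
    | h q =>
    intro he'
    rw [AlgSp.Points.map_mk, AlgSp.Points.map_mk] at he'
    obtain ⟨Ω₀, _, w₀, a₀, b₀, hab⟩ := AlgSpDecent.exists_common_of_mk_eq he'
    rw [AlgSp.FieldPt.toHom_map, AlgSp.FieldPt.toHom_map] at hab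
    let Ω := AlgebraicClosure Ω₀
    let ext : Spec (CommRingCat.of Ω) ⟶ Spec (CommRingCat.of Ω₀) :=
      Spec.map (CommRingCat.ofHom (algebraMap Ω₀ Ω))
    let w : Spec (CommRingCat.of Ω) ⟶ S := ext ≫ w₀
    let ι : Over.mk w ⟶ Over.mk w₀ := Over.homMk ext rfl
    let a' : Over.mk w ⟶ p.pt := ι ≫ a₀
    let b' : Over.mk w ⟶ q.pt := ι ≫ b₀
    have hab' : ((AlgSp.yon S).map a' ≫ p.toHom) ≫ snd = ((AlgSp.yon S).map b' ≫ q.toHom) ≫ snd := by
      simp only [a', b', Functor.map_comp, Category.assoc]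
      exact congrArg (_ ≫ ·) hab
    have keyl : (AlgSp.yon S).map a' ≫ p.toHom = (AlgSp.yon S).map b' ≫ q.toHom := by
      apply sq.hom_ext
      · obtain ⟨g₀, hg₀⟩ := (AlgSp.yon S).map_surjective ((((AlgSp.yon S).map a' ≫ p.toHom) ≫ fst) ≫ α)
        refine key g₀ ?_ _ _ hg₀.symm (Eq.trans ?_ hg₀.symm)
        · simpa using autTriv_of_factor h H (a := a) (𝟙 (Over.mk w)) g₀
        · simp only [Category.assoc, sq.w]
          rw [← Category.assoc, ← Category.assoc, ← Category.assoc, ← Category.assoc, hab']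
      · exact hab'
    let t : ↥(Over.mk w).left := IsLocalRing.closedPoint Ω
    have h₁ := AlgSpDecent.map_toHom_eq p (AlgSp.Points.map ((AlgSp.yon S).map a') (AlgSp.Points.ofScheme _ t))
    have h₂ := AlgSpDecent.map_toHom_eq q (AlgSp.Points.map ((AlgSp.yon S).map b') (AlgSp.Points.ofScheme _ t))
    rw [← AlgSp.Points.map_comp] at h₁ h₂
    rw [← h₁, ← h₂, keyl]
  have hu : AlgSp.LocP (@LocallyOfFiniteType ⊓ @FormallyUnramified) α := by
    obtain ⟨W, p, hp, hps⟩ := F.property.atlas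
    obtain ⟨k, hk⟩ := (AlgSp.yon S).map_surjective (p ≫ α)
    have hid : AlgSp.RepWith @Etale (𝟙 ((AlgSp.yon S).obj T)) := AlgSp.repWith_id _ T
    haveI : LocallyOfFiniteType k.left := hlft p (𝟙 _) k hp hid (by rw [Category.comp_id, hk])
    refine AlgSpDescent.unramified_of_lft_formallyUnramified F.property (AlgSp.IsAlgSpace.yon_obj T) hlft
      (AlgSpDescent.formallyUnramified_of_chart hp hid (h := k) (by rw [Category.comp_id, hk]) hps ?_)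
    refine formallyUnramified_of_test_algClosed k fun K _ _ str v ρ hρ hvk => ?_
    obtain rfl : ρ = rho str (RingHom.id K) := Over.OverMorphism.ext hρ
    have hv : (AlgSp.yon S).map (rho str (RingHom.id K) ≫ v) ≫ p = (AlgSp.yon S).map v ≫ p := by
      refine key (v ≫ k) ?_ _ _ ?_ ?_
      · rw [← hvk, rho_eq, Category.assoc]
        exact autTriv_of_factor h H (prK str) (i0K str ≫ v ≫ k)
      · rw [Category.assoc, ← hk, ← Functor.map_comp, Category.assoc, hvk]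
      · rw [Category.assoc, ← hk, ← Functor.map_comp]
    refine eq_of_etale_yon hp (A := CommRingCat.of (DualNumber K)) (RingHom.ker (red (A := K))) sq_ker_red _ _ _ ?_ hv
    rw [← Category.assoc, thick_rho str (RingHom.id K)]
  haveI : Mono α := AlgSpDescent.mono_of_unramified_univInjective F.property (AlgSp.IsAlgSpace.yon_obj T) hu hui
  -- objects over the base point are uniquely isomorphic
  have hM : ∀ Q Q' : (FibCat.fp y D).obj, IsIso Q.obj.fst.hom → IsIso Q'.obj.fst.hom → Nonempty (Q ⟶ Q') := by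
    intro Q Q' hQ hQ'
    let A := e.toFunctor.objPreimage Q
    let A' := e.toFunctor.objPreimage Q'
    let eQ : e.obj A ≅ Q := e.toFunctor.objObjPreimageIso Q
    let eQ' : e.obj A' ≅ Q' := e.toFunctor.objObjPreimageIso Q'
    have hsecIso : ∀ (B : (AlgSt.ofSp F.obj).obj) (R : (FibCat.fp y D).obj) (eR : e.obj B ≅ R),
        IsIso R.obj.fst.hom → IsIso (AlgSt.secHom Φ B) := fun B R eR hR => by
      let eb : (Φ.obj B).left ≅ R.obj.fst.left :=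
        (Over.forget T).mapIso ((FibCat.fpFst y D).toFunctor.mapIso eR)
      have hw : eb.hom ≫ R.obj.fst.hom = (Φ.obj B).hom := Over.w ((FibCat.fpFst y D).map eR.hom)
      haveI := hR
      haveI : IsIso (Φ.obj B).hom := by rw [← hw]; infer_instance
      show IsIso (eqToHom _ ≫ (Φ.obj B).hom)
      infer_instance
    haveI := hsecIso A' Q' eQ' hQ'
    let hh : A.base ⟶ A'.base := AlgSt.secHom Φ A ≫ inv (AlgSt.secHom Φ A')
    have hsec : F.obj.obj.map hh.op A'.sec = A.sec := by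
      let l := AlgSpace.sect.symm (F.obj.obj.map hh.op A'.sec)
      let l' := AlgSpace.sect.symm A.sec
      have e1 : ∀ (s : F.obj.obj.obj (op A.base)) (g : A.base ⟶ T), AlgSt.secHom Φ ⟨A.base, s⟩ = g →
          AlgSpace.sect.symm s ≫ α = (AlgSp.yon S).map g := fun s g hg => by
        apply AlgSpace.sect.injective
        rw [show AlgSpace.sect (AlgSpace.sect.symm s ≫ α) = α.hom.app (op A.base) (AlgSpace.sect (AlgSpace.sect.symm s)) from
            GrothendieckTopology.uliftYonedaEquiv_comp _ _ _, Equiv.apply_symm_apply,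
          show AlgSpace.sect ((AlgSp.yon S).map g) = ULift.up g from
            GrothendieckTopology.uliftYonedaEquiv_uliftYoneda_map _ _, AlgSt.spMapOfOver_app, hg]
      have h3 : AlgSt.secHom Φ ⟨A.base, F.obj.obj.map hh.op A'.sec⟩ = AlgSt.secHom Φ A := by
        have := AlgSt.secHom_comp Φ (a' := ⟨A.base, F.obj.obj.map hh.op A'.sec⟩) (a := A') ⟨hh, rfl⟩
        rw [← this]
        simp [hh]
      exact AlgSpace.sect.symm.injective ((cancel_mono α).1 ((e1 _ _ h3).trans (e1 _ _ rfl).symm))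
    let ψ : A ⟶ A' := ⟨hh, hsec⟩
    exact ⟨eQ.inv ≫ e.map ψ ≫ eQ'.hom⟩
  let jφ : P ≅ D.obj a := fpIsoMk (asIso φ) (Iso.refl a) (by
    show 𝒳.p.map φ ≫ _ = _ ≫ 𝒳.p.map (𝟙 a)
    rw [hφ]
    rw [CategoryTheory.Functor.map_id]
    exact (Category.id_comp _).trans (Category.comp_id _).symm)
  let j1 : P ≅ D.obj a := fpIsoMk (Iso.refl a) (Iso.refl a) (by
    show 𝒳.p.map (𝟙 a) ≫ _ = _ ≫ 𝒳.p.map (𝟙 a)
    rw [CategoryTheory.Functor.map_id]
    exact (Category.id_comp _).trans (Category.comp_id _).symm)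
  haveI : 𝒵.p.IsHomLift (𝟙 T) jφ.hom := @isHomLift_of_fst _ _ _ _ _ _ _ _ _ _ _ _ _ ‹_›
  haveI : 𝒵.p.IsHomLift (𝟙 T) j1.hom := @isHomLift_of_fst _ _ _ _ _ _ _ _ _ _ _ _ _ (IsHomLift.id rfl)
  let Qφ : (FibCat.fp y D).obj := fpObj (Over.mk (𝟙 T)) a (i ≪≫ jφ) (U := T) rfl (by
    have h1 : 𝒵.p.IsHomLift (𝟙 T ≫ 𝟙 T) (i ≪≫ jφ).hom := inferInstanceAs (𝒵.p.IsHomLift _ (i.hom ≫ jφ.hom))
    rwa [Category.id_comp] at h1)
  let Q1 : (FibCat.fp y D).obj := fpObj (Over.mk (𝟙 T)) a (i ≪≫ j1) (U := T) rfl (by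
    have h1 : 𝒵.p.IsHomLift (𝟙 T ≫ 𝟙 T) (i ≪≫ j1).hom := inferInstanceAs (𝒵.p.IsHomLift _ (i.hom ≫ j1.hom))
    rwa [Category.id_comp] at h1)
  obtain ⟨π⟩ := hM Qφ Q1 (inferInstanceAs (IsIso (𝟙 T))) (inferInstanceAs (IsIso (𝟙 T)))
  have hπ : π.hom.fst = 𝟙 _ := Over.OverMorphism.ext ((Category.comp_id _).symm.trans (Over.w π.hom.fst))
  have hw : y.map π.hom.fst ≫ i.hom ≫ j1.hom = (i.hom ≫ jφ.hom) ≫ D.map π.hom.snd := fp_w π
  rw [hπ, CategoryTheory.Functor.map_id, Category.id_comp, Category.assoc, cancel_epi] at hw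
  have h1 : 𝟙 a = φ ≫ π.hom.snd := congrArg (fun t => t.hom.fst) hw
  have h2 : 𝟙 a = 𝟙 a ≫ π.hom.snd := congrArg (fun t => t.hom.snd) hw
  rw [Category.id_comp] at h2
  rw [← h2, Category.comp_id] at h1
  exact h1.symm

theorem repByAlgSp_iff (h𝒳 : AlgSt.IsAlgStack Scheme.fppfPrecoverage 𝒳) :
    AlgSt.RepByAlgSp 𝒳 ↔ GeomAutTriv 𝒳 := by
  have h := h𝒳.isStack.1
  constructor
  · intro hr k _ _ x _ ξ _ σ hσ
    haveI : 𝒳.p.IsHomLift (𝟙 _) σ := IsHomLift.of_fac' 𝒳.p (𝟙 (𝒳.p.obj ξ)) σ rfl rfl (by simp [hσ])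
    haveI : 𝒳.p.IsHomLift (𝟙 (𝒳.p.obj ξ)) (𝟙 ξ) := IsHomLift.id rfl
    exact hom_ext_of_isFibSetoid (StAlg.isFibSetoid_of_rep hr) (𝟙 (𝒳.p.obj ξ)) σ (𝟙 ξ)
  · intro H
    refine (StAlg16.isFibSetoid_iff_rep h𝒳).1 ((StAlg16.faithful_toSelf_iff h).1 ?_)
    exact (StAlg16.faithful_iff_kernel (FibCat.toSelf 𝒳) h selfOver_isFibGrpd).2 fun a φ hφ _ =>
      eq_id_of_geomAutTriv h𝒳 H a φ hφ

end Groth.Agent.StAut14
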