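import Groth.Agent.Lib.IsoNat5.Unramified
import Mathlib.FieldTheory.IsAlgClosed.AlgebraicClosure

/-!
# The dual number test for unramifiedness over algebraically closed fields
-/

universe u

open CategoryTheory CategoryTheory.Limits AlgebraicGeometry TrivSqZeroExt

set_option backward.isDefEq.respectTransparency false
set_option backward.isDefEq.respectTransparency.types false

namespace Groth.Agent.StAut14

open Groth.Agent.IsoNat5

/-- the tangent vectors `ε ↦ 0` -/
theorem formallyUnramified_of_test_algClosed {S : Scheme.{u}} {W V : Over S} (k : W ⟶ V) [LocallyOfFiniteType k.left]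
    (h : ∀ (K : Type u) [Field K] [IsAlgClosed K] (str : Spec (CommRingCat.of K) ⟶ S) (v : dualK str (RingHom.id K) ⟶ W)
      (ρ : dualK str (RingHom.id K) ⟶ dualK str (RingHom.id K)),
      ρ.left = Spec.map (CommRingCat.ofHom (mapD (RingHom.id K) 0)) → ρ ≫ v ≫ k = v ≫ k → ρ ≫ v = v) :
    FormallyUnramified k.left := by
  refine ⟨fun {U} hU {V'} hV e => ?_⟩
  algebraize [(k.left.appLE U V' e).hom]
  haveI : Algebra.FiniteType Γ(V.left, U) Γ(W.left, V') := k.left.finiteType_appLE hU hV e
  refine formallyUnramified_of_dual fun K₀ _ φ₀ hφ₀ => ?_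
  let K := AlgebraicClosure K₀
  let jK : K₀ →+* K := algebraMap K₀ K
  let φ : Γ(W.left, V') →+* DualNumber K := (mapD jK 1).comp φ₀
  have hφ : φ.comp (algebraMap Γ(V.left, U) Γ(W.left, V')) =
      cst.comp (red.comp (φ.comp (algebraMap Γ(V.left, U) Γ(W.left, V')))) := by
    refine RingHom.ext fun r => ?_
    have h2 := congrArg TrivSqZeroExt.snd (RingHom.congr_fun hφ₀ r)
    simp at h2
    ext
    · simp [φ]
    · simp [φ, h2]
  let f : CommRingCat.of (DualNumber K) ⟶ CommRingCat.of (DualNumber K) :=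
    CommRingCat.ofHom (mapD (RingHom.id K) 0)
  let φ' : Γ(W.left, V') ⟶ CommRingCat.of (DualNumber K) := CommRingCat.ofHom φ
  let ψ : Γ(W.left, V') ⟶ CommRingCat.of K := CommRingCat.ofHom (red.comp φ)
  let str : Spec (CommRingCat.of K) ⟶ S := Spec.map ψ ≫ hV.fromSpec ≫ W.hom
  have hsq := IsAffineOpen.SpecMap_appLE_fromSpec k.left hU hV e
  have key : k.left.appLE U V' e ≫ φ' = k.left.appLE U V' e ≫ ψ ≫ CommRingCat.ofHom cst := CommRingCat.hom_ext hφ
  have hstr : (Spec.map φ' ≫ hV.fromSpec) ≫ W.hom = Spec.map (CommRingCat.ofHom (cst.comp (RingHom.id K))) ≫ str := by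
    have e1 : hV.fromSpec ≫ W.hom = Spec.map (k.left.appLE U V' e) ≫ hU.fromSpec ≫ V.hom := by
      rw [reassoc_of% hsq, Over.w k]
    show (Spec.map φ' ≫ hV.fromSpec) ≫ W.hom = Spec.map (CommRingCat.ofHom cst) ≫ Spec.map ψ ≫ hV.fromSpec ≫ W.hom
    rw [Category.assoc, e1]
    simp only [← Category.assoc, ← Spec.map_comp]
    rw [key]
    simp only [Category.assoc]
  let v : dualK str (RingHom.id K) ⟶ W := Over.homMk (Spec.map φ' ≫ hV.fromSpec) hstr
  let ρ : dualK str (RingHom.id K) ⟶ dualK str (RingHom.id K) :=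
    specK str (mapD (RingHom.id K) 0) (RingHom.ext fun x => by ext <;> simp)
  have hv := congrArg (fun w => w.left) (h K str v ρ rfl (by
    apply Over.OverMorphism.ext
    show Spec.map f ≫ (Spec.map φ' ≫ hV.fromSpec) ≫ k.left = (Spec.map φ' ≫ hV.fromSpec) ≫ k.left
    simp only [Category.assoc, ← hsq]
    simp only [← Category.assoc, ← Spec.map_comp]
    congr 2
    rw [Category.assoc]
    apply CommRingCat.hom_ext
    show (mapD (RingHom.id K) 0).comp (φ.comp (algebraMap Γ(V.left, U) Γ(W.left, V'))) =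
      φ.comp (algebraMap Γ(V.left, U) Γ(W.left, V'))
    rw [← cst_comp_red, RingHom.comp_assoc]
    exact hφ.symm))
  change Spec.map f ≫ Spec.map φ' ≫ hV.fromSpec = Spec.map φ' ≫ hV.fromSpec at hv
  rw [← Category.assoc, cancel_mono, ← Spec.map_comp] at hv
  have h2 := congrArg (fun r => r.hom) (Spec.map_injective hv)
  have h3 : φ = cst.comp (red.comp φ) := by
    rw [← RingHom.comp_assoc, cst_comp_red]
    exact h2.symm
  refine RingHom.ext fun r => ?_
  have h4 := congrArg TrivSqZeroExt.snd (RingHom.congr_fun h3 r)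
  simp [φ] at h4
  ext
  · simp
  · simpa using h4


end Groth.Agent.StAut14
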