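import Groth.Agent.Lib.StAut14.Main
import Groth.Agent.Lib.StAlg16.AtlasEt

/-!
# Trivial automorphisms at geometric points: stacks with unramified diagonal, stacks for the etale topology
-/

set_option autoImplicit false
set_option backward.isDefEq.respectTransparency false
set_option backward.isDefEq.respectTransparency.types false

universe u

open CategoryTheory CategoryTheory.Functor CategoryTheory.Limits AlgebraicGeometry Opposite

namespace Groth.Agent.StAut14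

open Groth.Agent.IsoNat5 Groth.Agent.FC16

variable {S : Scheme.{u}} {𝒳 : AlgSt.Cat S}

variable (𝒳) in
/-- Objects over geometric points have no automorphisms. -/
def GeomAutTriv₀ : Prop :=
  ∀ (k : Type u) [Field k] [IsAlgClosed k] (str : Spec (CommRingCat.of k) ⟶ S) (x : 𝒳.obj)
    (_ : 𝒳.p.obj x = Over.mk str) (σ : x ⟶ x), 𝒳.p.map σ = 𝟙 (𝒳.p.obj x) → σ = 𝟙 x

theorem GeomAutTriv.weak (H : GeomAutTriv 𝒳) : GeomAutTriv₀ 𝒳 := fun k _ _ _ x hx σ hσ =>
  H k x (eqToIso (congrArg Comma.left hx)) x (𝟙 x) σ hσ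

theorem autTriv_of_geomAutTriv₀ (H : GeomAutTriv₀ 𝒳) {a : 𝒳.obj} {K : Type u} [Field K] [IsAlgClosed K]
    {str : Spec (CommRingCat.of K) ⟶ S} (g : Over.mk str ⟶ 𝒳.p.obj a) : AutTriv a g := by
  intro x m hm σ hσ
  haveI := hm
  haveI := hσ
  refine H K str x (IsHomLift.domain_eq 𝒳.p g m) σ ?_
  rw [IsHomLift.fac' 𝒳.p (𝟙 (Over.mk str)) σ]
  simp

theorem eq_id_of_geomAutTriv₀ (h : FibCat.IsFibGrpd 𝒳.p)
    (hd : AlgSt.RepByAlgSpWith (AlgSp.LocP @LocallyOfFiniteType) (FibCat.diag (FibCat.toSelf 𝒳)))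
    (H : GeomAutTriv₀ 𝒳)
    (hor : GeomAutTriv 𝒳 ∨ AlgSt.RepByAlgSpWith (AlgSp.LocP (@LocallyOfFiniteType ⊓ @FormallyUnramified))
      (FibCat.diag (FibCat.toSelf 𝒳)))
    (a : 𝒳.obj) (φ : a ⟶ a) (hφ : 𝒳.p.map φ = 𝟙 _) : φ = 𝟙 a := by
  let T := 𝒳.p.obj a
  let D := FibCat.diag (FibCat.toSelf 𝒳)
  let 𝒵 := FibCat.fp (FibCat.toSelf 𝒳) (FibCat.toSelf 𝒳)
  have h𝒵 : FibCat.IsFibGrpd 𝒵.p := FC16.fp_isFibGrpd h h selfOver_isFibGrpd _ _
  haveI := FC16.isFibered h𝒵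
  haveI : 𝒳.p.IsHomLift (𝟙 T) φ := IsHomLift.of_fac' 𝒳.p _ φ rfl rfl (by simp [hφ, T])
  haveI : IsIso φ := FC16.isIso_of_isHomLift h (𝟙 T) φ
  let P : 𝒵.obj := fpObj a a (Iso.refl _) (U := T) rfl (IsHomLift.id rfl)
  have hP : 𝒵.p.obj P = T := rfl
  let y := ofObj hP
  let i := ofObjIso hP
  haveI hi : 𝒵.p.IsHomLift (𝟙 T) i.hom := inferInstanceAs (𝒵.p.IsHomLift (𝟙 T) (IsPreFibered.pullbackMap hP (𝟙 T)))
  obtain ⟨F, e, he, hlft, hor'⟩ : ∃ (F : AlgSp.Space S) (e : AlgSt.ofSp F.obj ⥤ᵇ FibCat.fp y D),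
      FibCat.IsEquivOver e ∧
        AlgSp.LocP @LocallyOfFiniteType (AlgSt.spMapOfOver (BasedFunctor.comp e (FibCat.fpFst y D))) ∧
        (GeomAutTriv 𝒳 ∨ AlgSp.LocP (@LocallyOfFiniteType ⊓ @FormallyUnramified)
          (AlgSt.spMapOfOver (BasedFunctor.comp e (FibCat.fpFst y D)))) := by
    rcases hor with hH | hu₀
    · obtain ⟨F, e, he, hlft⟩ := hd T y
      exact ⟨F, e, he, hlft, Or.inl hH⟩
    · obtain ⟨F, e, he, hu'⟩ := hu₀ T y
      exact ⟨F, e, he, StAlg.locP_mono StAlg.lftUnram_le_lft hu', Or.inr hu'⟩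
  haveI := FC16.isEquivalence_of_isEquivOver he
  let Φ := BasedFunctor.comp e (FibCat.fpFst y D)
  let α : F.obj ⟶ (AlgSp.yon S).obj T := AlgSt.spMapOfOver Φ
  have key : ∀ {T' : Over S} (g : T' ⟶ T), AutTriv a g → ∀ l l' : (AlgSp.yon S).obj T' ⟶ F.obj,
      l ≫ α = (AlgSp.yon S).map g → l' ≫ α = (AlgSp.yon S).map g → l = l' := fun {T'} g hg l l' hl hl' =>
    eq_of_autTriv h (hU := rfl) i.hom hi (𝟙 a) (𝟙 a) (IsHomLift.id rfl) (IsHomLift.id rfl) he g
      (by simpa using hg) l l' hl hl'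
  -- the Isom space is unramified and universally injective
  have hui : AlgSp.IsUnivInjectiveMor α := by
    intro Z Z' hZ g fst snd sq x₁ x₂
    induction x₁ using AlgSp.Points.ind with
    | h p =>
    induction x₂ using AlgSp.Points.ind with
    | h q =>
    intro he'
    rw [AlgSp.Points.map_mk, AlgSp.Points.map_mk] at he'
    obtain ⟨Ω₀, _, w₀, a₀, b₀, hab⟩ := AlgSpDecent.exists_common_of_mk_eq he'
    rw [AlgSp.FieldPt.toHom_map, AlgSp.FieldPt.toHom_map] at hab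
    let Ω := AlgebraicClosure Ω₀
    let ext : Spec (CommRingCat.of Ω) ⟶ Spec (CommRingCat.of Ω₀) :=
      Spec.map (CommRingCat.ofHom (algebraMap Ω₀ Ω))
    let w : Spec (CommRingCat.of Ω) ⟶ S := ext ≫ w₀
    let ι : Over.mk w ⟶ Over.mk w₀ := Over.homMk ext rfl
    let a' : Over.mk w ⟶ p.pt := ι ≫ a₀
    let b' : Over.mk w ⟶ q.pt := ι ≫ b₀
    have hab' : ((AlgSp.yon S).map a' ≫ p.toHom) ≫ snd = ((AlgSp.yon S).map b' ≫ q.toHom) ≫ snd := by
      simp only [a', b', Functor.map_comp, Category.assoc]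
      exact congrArg (_ ≫ ·) hab
    have keyl : (AlgSp.yon S).map a' ≫ p.toHom = (AlgSp.yon S).map b' ≫ q.toHom := by
      apply sq.hom_ext
      · obtain ⟨g₀, hg₀⟩ := (AlgSp.yon S).map_surjective ((((AlgSp.yon S).map a' ≫ p.toHom) ≫ fst) ≫ α)
        refine key g₀ ?_ _ _ hg₀.symm (Eq.trans ?_ hg₀.symm)
        · exact autTriv_of_geomAutTriv₀ H g₀
        · simp only [Category.assoc, sq.w]
          rw [← Category.assoc, ← Category.assoc, ← Category.assoc, ← Category.assoc, hab']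
      · exact hab'
    let t : ↥(Over.mk w).left := IsLocalRing.closedPoint Ω
    have h₁ := AlgSpDecent.map_toHom_eq p (AlgSp.Points.map ((AlgSp.yon S).map a') (AlgSp.Points.ofScheme _ t))
    have h₂ := AlgSpDecent.map_toHom_eq q (AlgSp.Points.map ((AlgSp.yon S).map b') (AlgSp.Points.ofScheme _ t))
    rw [← AlgSp.Points.map_comp] at h₁ h₂
    rw [← h₁, ← h₂, keyl]
  have hu : AlgSp.LocP (@LocallyOfFiniteType ⊓ @FormallyUnramified) α := by
    rcases hor' with Hs | hu'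
    swap
    · exact hu'
    obtain ⟨W, p, hp, hps⟩ := F.property.atlas
    obtain ⟨k, hk⟩ := (AlgSp.yon S).map_surjective (p ≫ α)
    have hid : AlgSp.RepWith @Etale (𝟙 ((AlgSp.yon S).obj T)) := AlgSp.repWith_id _ T
    haveI : LocallyOfFiniteType k.left := hlft p (𝟙 _) k hp hid (by rw [Category.comp_id, hk])
    refine AlgSpDescent.unramified_of_lft_formallyUnramified F.property (AlgSp.IsAlgSpace.yon_obj T) hlft
      (AlgSpDescent.formallyUnramified_of_chart hp hid (h := k) (by rw [Category.comp_id, hk]) hps ?_)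
    refine formallyUnramified_of_test_algClosed k fun K _ _ str v ρ hρ hvk => ?_
    obtain rfl : ρ = rho str (RingHom.id K) := Over.OverMorphism.ext hρ
    have hv : (AlgSp.yon S).map (rho str (RingHom.id K) ≫ v) ≫ p = (AlgSp.yon S).map v ≫ p := by
      refine key (v ≫ k) ?_ _ _ ?_ ?_
      · rw [← hvk, rho_eq, Category.assoc]
        exact autTriv_of_factor h Hs (prK str) (i0K str ≫ v ≫ k)
      · rw [Category.assoc, ← hk, ← Functor.map_comp, Category.assoc, hvk]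
      · rw [Category.assoc, ← hk, ← Functor.map_comp]
    refine eq_of_etale_yon hp (A := CommRingCat.of (DualNumber K)) (RingHom.ker (red (A := K))) sq_ker_red _ _ _ ?_ hv
    rw [← Category.assoc, thick_rho str (RingHom.id K)]
  haveI : Mono α := AlgSpDescent.mono_of_unramified_univInjective F.property (AlgSp.IsAlgSpace.yon_obj T) hu hui
  -- objects over the base point are uniquely isomorphic
  have hM : ∀ Q Q' : (FibCat.fp y D).obj, IsIso Q.obj.fst.hom → IsIso Q'.obj.fst.hom → Nonempty (Q ⟶ Q') := by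
    intro Q Q' hQ hQ'
    let A := e.toFunctor.objPreimage Q
    let A' := e.toFunctor.objPreimage Q'
    let eQ : e.obj A ≅ Q := e.toFunctor.objObjPreimageIso Q
    let eQ' : e.obj A' ≅ Q' := e.toFunctor.objObjPreimageIso Q'
    have hsecIso : ∀ (B : (AlgSt.ofSp F.obj).obj) (R : (FibCat.fp y D).obj) (eR : e.obj B ≅ R),
        IsIso R.obj.fst.hom → IsIso (AlgSt.secHom Φ B) := fun B R eR hR => by
      let eb : (Φ.obj B).left ≅ R.obj.fst.left :=
        (Over.forget T).mapIso ((FibCat.fpFst y D).toFunctor.mapIso eR)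
      have hw : eb.hom ≫ R.obj.fst.hom = (Φ.obj B).hom := Over.w ((FibCat.fpFst y D).map eR.hom)
      haveI := hR
      haveI : IsIso (Φ.obj B).hom := by rw [← hw]; infer_instance
      show IsIso (eqToHom _ ≫ (Φ.obj B).hom)
      infer_instance
    haveI := hsecIso A' Q' eQ' hQ'
    let hh : A.base ⟶ A'.base := AlgSt.secHom Φ A ≫ inv (AlgSt.secHom Φ A')
    have hsec : F.obj.obj.map hh.op A'.sec = A.sec := by
      let l := AlgSpace.sect.symm (F.obj.obj.map hh.op A'.sec)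
      let l' := AlgSpace.sect.symm A.sec
      have e1 : ∀ (s : F.obj.obj.obj (op A.base)) (g : A.base ⟶ T), AlgSt.secHom Φ ⟨A.base, s⟩ = g →
          AlgSpace.sect.symm s ≫ α = (AlgSp.yon S).map g := fun s g hg => by
        apply AlgSpace.sect.injective
        rw [show AlgSpace.sect (AlgSpace.sect.symm s ≫ α) = α.hom.app (op A.base) (AlgSpace.sect (AlgSpace.sect.symm s)) from
            GrothendieckTopology.uliftYonedaEquiv_comp _ _ _, Equiv.apply_symm_apply,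
          show AlgSpace.sect ((AlgSp.yon S).map g) = ULift.up g from
            GrothendieckTopology.uliftYonedaEquiv_uliftYoneda_map _ _, AlgSt.spMapOfOver_app, hg]
      have h3 : AlgSt.secHom Φ ⟨A.base, F.obj.obj.map hh.op A'.sec⟩ = AlgSt.secHom Φ A := by
        have := AlgSt.secHom_comp Φ (a' := ⟨A.base, F.obj.obj.map hh.op A'.sec⟩) (a := A') ⟨hh, rfl⟩
        rw [← this]
        simp [hh]
      exact AlgSpace.sect.symm.injective ((cancel_mono α).1 ((e1 _ _ h3).trans (e1 _ _ rfl).symm))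
    let ψ : A ⟶ A' := ⟨hh, hsec⟩
    exact ⟨eQ.inv ≫ e.map ψ ≫ eQ'.hom⟩
  let jφ : P ≅ D.obj a := fpIsoMk (asIso φ) (Iso.refl a) (by
    show 𝒳.p.map φ ≫ _ = _ ≫ 𝒳.p.map (𝟙 a)
    rw [hφ]
    rw [CategoryTheory.Functor.map_id]
    exact (Category.id_comp _).trans (Category.comp_id _).symm)
  let j1 : P ≅ D.obj a := fpIsoMk (Iso.refl a) (Iso.refl a) (by
    show 𝒳.p.map (𝟙 a) ≫ _ = _ ≫ 𝒳.p.map (𝟙 a)
    rw [CategoryTheory.Functor.map_id]
    exact (Category.id_comp _).trans (Category.comp_id _).symm)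
  haveI : 𝒵.p.IsHomLift (𝟙 T) jφ.hom := @isHomLift_of_fst _ _ _ _ _ _ _ _ _ _ _ _ _ ‹_›
  haveI : 𝒵.p.IsHomLift (𝟙 T) j1.hom := @isHomLift_of_fst _ _ _ _ _ _ _ _ _ _ _ _ _ (IsHomLift.id rfl)
  let Qφ : (FibCat.fp y D).obj := fpObj (Over.mk (𝟙 T)) a (i ≪≫ jφ) (U := T) rfl (by
    have h1 : 𝒵.p.IsHomLift (𝟙 T ≫ 𝟙 T) (i ≪≫ jφ).hom := inferInstanceAs (𝒵.p.IsHomLift _ (i.hom ≫ jφ.hom))
    rwa [Category.id_comp] at h1)
  let Q1 : (FibCat.fp y D).obj := fpObj (Over.mk (𝟙 T)) a (i ≪≫ j1) (U := T) rfl (by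
    have h1 : 𝒵.p.IsHomLift (𝟙 T ≫ 𝟙 T) (i ≪≫ j1).hom := inferInstanceAs (𝒵.p.IsHomLift _ (i.hom ≫ j1.hom))
    rwa [Category.id_comp] at h1)
  obtain ⟨π⟩ := hM Qφ Q1 (inferInstanceAs (IsIso (𝟙 T))) (inferInstanceAs (IsIso (𝟙 T)))
  have hπ : π.hom.fst = 𝟙 _ := Over.OverMorphism.ext ((Category.comp_id _).symm.trans (Over.w π.hom.fst))
  have hw : y.map π.hom.fst ≫ i.hom ≫ j1.hom = (i.hom ≫ jφ.hom) ≫ D.map π.hom.snd := fp_w π
  rw [hπ, CategoryTheory.Functor.map_id, Category.id_comp, Category.assoc, cancel_epi] at hw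
  have h1 : 𝟙 a = φ ≫ π.hom.snd := congrArg (fun t => t.hom.fst) hw
  have h2 : 𝟙 a = 𝟙 a ≫ π.hom.snd := congrArg (fun t => t.hom.snd) hw
  rw [Category.id_comp] at h2
  rw [← h2, Category.comp_id] at h1
  exact h1.symm

theorem lft_diag_toSelf {K : Precoverage Scheme.{u}} (h𝒳 : AlgSt.IsAlgStack K 𝒳) :
    AlgSt.RepByAlgSpWith (AlgSp.LocP @LocallyOfFiniteType) (FibCat.diag (FibCat.toSelf 𝒳)) := by
  open StAlg in
  obtain ⟨U, x, hsm, hsurj⟩ := h𝒳.atlas
  have hg := h𝒳.isStack.1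
  have hz := isFibGrpd_of_rep (rep_overCat U)
  let t := FibCat.toSelf 𝒳
  have hw₁ := with_locP_mono smooth_le_flat hsm
  have hw₂ := with_locP_mono smooth_le_lfp hsm
  refine with_of_fpFst_cover (z := pair (Iso.refl (BasedFunctor.comp x t)) (Iso.refl (BasedFunctor.comp x t)))
    pbP_locP isLocalOnBase_fppf_locP_lft hg (fp_isFibGrpd hg hg selfOver_isFibGrpd _ _)
    (fp_isFibGrpd hz hz selfOver_isFibGrpd _ _) h𝒳.diag
    (with_fp_map_gen goodP_locP hg selfOver_isFibGrpd t t hz hz hw₁ hw₁)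
    (with_fp_map_gen goodP_locP hg selfOver_isFibGrpd t t hz hz hw₂ hw₂)
    (with_fp_map_gen goodP_surjective hg selfOver_isFibGrpd t t hz hz hsurj hsurj)
    ((with_cmp_iff (wrIso (FibCat.fpIso x x) t) (fun _ => rfl)).2 ?_)
  have hk : AlgSt.RepByAlgSp1 (BasedFunctor.comp x t) := rep1_of_rep (rep_overCat U) rep_selfOver _
  exact with_of_comp (g := FibCat.fpFst (BasedFunctor.comp x t) (BasedFunctor.comp x t)) goodP_locP
    (fp_isFibGrpd hz hz hg _ _) (fp_isFibGrpd hz hz selfOver_isFibGrpd _ _) hz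
    (with_of_iso (Iso.refl _) (with_fpFst x (with_locP_mono smooth_le_lft hsm)))
    (with_diag_of_rep1 pbP_locP (repByAlgSp1_iff.1 (rep1_fpFst _ hk)) fun _ hX _ a _ =>
      locP_mono lftUnram_le_lft (locP_lftUnram_diagonal hX a))

end Groth.Agent.StAut14
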